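import Mathlib

/-!
# A module which becomes cyclic after faithfully flat base change is cyclic over a semilocal ring
-/

universe u

open scoped TensorProduct
open TensorProduct

namespace Groth.Agent.GGDesc

section

variable {A B R R' M M' : Type u} [CommRing A] [CommRing B] [CommRing R] [CommRing R']
  [Algebra A B] [Algebra A R] (ρ : R →+* R') (σ : B →+* R')
  [AddCommGroup M] [Module R M] [Module A M] [IsScalarTower A R M] [AddCommGroup M'] [Module R' M']
  (l : M →+ M') (hl : ∀ r m, l (r • m) = ρ r • l m)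
  (ψ : B ⊗[A] M →+ M') (hψ : ∀ b m, ψ (b ⊗ₜ m) = σ b • l m) (hψb : Function.Bijective ψ)
  (hgen : ∀ x : R', x ∈ AddSubmonoid.closure {y | ∃ b r, y = σ b * ρ r})
  (u' : M') (hu : ∀ y : M', ∃ c : R', y = c • u')

include hl hψ hψb in
/-- The operator on `B ⊗ M` corresponding to a generator of `R'`. -/
theorem psi_op (b : B) (r : R) (q : B ⊗[A] M) :
    ψ (TensorProduct.map (LinearMap.mulLeft A b) (((LinearMap.lsmul R M r).restrictScalars A)) q) =
      (σ b * ρ r) • ψ q := by
  induction q using TensorProduct.induction_on with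
  | zero => simp
  | add x y hx hy => simp only [map_add, hx, hy, smul_add]
  | tmul b' m =>
    simp only [TensorProduct.map_tmul, LinearMap.mulLeft_apply, LinearMap.coe_restrictScalars,
      LinearMap.lsmul_apply, hψ, hl, map_mul, smul_smul]
    congr 1
    ring

include hl hψ hψb hgen hu in
theorem module_finite_of_cyclic [Module.FaithfullyFlat A B] : Module.Finite R M := by
  classical
  obtain ⟨q0, hq0⟩ := hψb.2 u'
  obtain ⟨S, hS⟩ := TensorProduct.exists_finset q0
  let N : Submodule R M := Submodule.span R (↑(S.image Prod.snd) : Set M)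
  let ι : (N.restrictScalars A) →ₗ[A] M := (N.restrictScalars A).subtype
  suffices h : Function.Surjective (ι.lTensor B) by
    have hs : Function.Surjective ι := (Module.FaithfullyFlat.lTensor_surjective_iff_surjective A B ι).1 h
    refine ⟨⟨S.image Prod.snd, eq_top_iff.2 fun m _ => ?_⟩⟩
    obtain ⟨⟨m', hm'⟩, rfl⟩ := hs m
    exact hm'
  have hop : ∀ x : R', ∀ q ∈ LinearMap.range (ι.lTensor B), ∀ q', ψ q' = x • ψ q →
      q' ∈ LinearMap.range (ι.lTensor B) := fun x => by
    induction hgen x using AddSubmonoid.closure_induction with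
    | mem x hx =>
      obtain ⟨b, r, rfl⟩ := hx
      rintro _ ⟨w, rfl⟩ q' hq'
      rw [← psi_op ρ σ l hl ψ hψ hψb] at hq'
      rw [hψb.1 hq']
      clear hq'
      let g : (N.restrictScalars A) →ₗ[A] (N.restrictScalars A) :=
        { toFun := fun n => ⟨r • n.1, N.smul_mem r n.2⟩
          map_add' := fun n n' => Subtype.ext (smul_add r n.1 n'.1)
          map_smul' := fun a n => Subtype.ext (smul_comm r a n.1) }
      refine ⟨TensorProduct.map (LinearMap.mulLeft A b) g w, ?_⟩
      induction w using TensorProduct.induction_on with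
      | zero => simp
      | add x y hx hy => simp only [map_add, hx, hy]
      | tmul b' n => rfl
    | zero =>
      intro q _ q' hq'
      rw [zero_smul, ← map_zero ψ] at hq'
      rw [hψb.1 hq']
      exact zero_mem _
    | add x y _ _ hx hy =>
      intro q hq q' hq'
      obtain ⟨qx, hqx⟩ := hψb.2 (x • ψ q)
      obtain ⟨qy, hqy⟩ := hψb.2 (y • ψ q)
      rw [add_smul, ← hqx, ← hqy, ← map_add] at hq'
      rw [hψb.1 hq']
      exact add_mem (hx q hq qx hqx) (hy q hq qy hqy)
  have h0 : q0 ∈ LinearMap.range (ι.lTensor B) := by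
    rw [hS]
    exact sum_mem fun i hi => ⟨i.1 ⊗ₜ ⟨i.2, Submodule.subset_span (Finset.mem_image.2 ⟨i, hi, rfl⟩)⟩, rfl⟩
  intro q
  obtain ⟨c, hc⟩ := hu (ψ q)
  exact hop c q0 h0 q (hc.trans (by rw [hq0]))

include hl hψ hψb hgen in
/-- Scalars acting through a map out of `B ⊗ M`. -/
theorem exists_scalar {C W : Type*} [Semiring C] [AddCommMonoid W] [Module C W] (χ : B ⊗[A] M →+ W) (c : B → R → C)
    (hχ : ∀ b r q, χ (TensorProduct.map (LinearMap.mulLeft A b)
      ((LinearMap.lsmul R M r).restrictScalars A) q) = c b r • χ q) (x : R') :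
    ∃ d : C, ∀ q q', ψ q' = x • ψ q → χ q' = d • χ q := by
  induction hgen x using AddSubmonoid.closure_induction with
  | mem x hx =>
    obtain ⟨b, r, rfl⟩ := hx
    refine ⟨c b r, fun q q' hq' => ?_⟩
    rw [← psi_op ρ σ l hl ψ hψ hψb] at hq'
    rw [hψb.1 hq', hχ]
  | zero =>
    refine ⟨0, fun q q' hq' => ?_⟩
    rw [zero_smul, ← map_zero ψ] at hq'
    rw [hψb.1 hq', map_zero, zero_smul]
  | add x y _ _ hx hy =>
    obtain ⟨cx, hcx⟩ := hx
    obtain ⟨cy, hcy⟩ := hy
    refine ⟨cx + cy, fun q q' hq' => ?_⟩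
    obtain ⟨qx, hqx⟩ := hψb.2 (x • ψ q)
    obtain ⟨qy, hqy⟩ := hψb.2 (y • ψ q)
    rw [add_smul, ← hqx, ← hqy, ← map_add] at hq'
    rw [hψb.1 hq', map_add, hcx q qx hqx, hcy q qy hqy, add_smul]

include hl hψ hψb hgen hu in
theorem exists_gen_mod [Module.FaithfullyFlat A B] (m : Ideal R) [m.IsMaximal] :
    ∃ s : M, Submodule.span R {s} ⊔ m • (⊤ : Submodule R M) = ⊤ := by
  classical
  haveI := module_finite_of_cyclic ρ σ l hl ψ hψ hψb hgen u' hu
  obtain ⟨q0, hq0⟩ := hψb.2 u'
  let χ : B ⊗[A] M →ₗ[A] ((R ⧸ m) ⊗[A] B) ⊗[R ⧸ m] ((R ⧸ m) ⊗[R] M) := TensorProduct.lift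
    (LinearMap.mk₂ A (fun b m' => ((1 : R ⧸ m) ⊗ₜ[A] b) ⊗ₜ[R ⧸ m] ((1 : R ⧸ m) ⊗ₜ[R] m'))
      (fun b b' x => by simp [TensorProduct.tmul_add, TensorProduct.add_tmul])
      (fun a b x => by simp [TensorProduct.tmul_smul, ← TensorProduct.smul_tmul'])
      (fun b x y => by simp [TensorProduct.tmul_add])
      (fun a b x => by
        have e : (1 : R ⧸ m) ⊗ₜ[R] (a • x) = algebraMap A (R ⧸ m) a • ((1 : R ⧸ m) ⊗ₜ[R] x) := by
          rw [← algebraMap_smul R a x, TensorProduct.tmul_smul, IsScalarTower.algebraMap_apply A R (R ⧸ m),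
            algebraMap_smul]
          exact (algebraMap_smul R a _).symm
        show _ = a • (((1 : R ⧸ m) ⊗ₜ[A] b) ⊗ₜ[R ⧸ m] ((1 : R ⧸ m) ⊗ₜ[R] x))
        rw [e, TensorProduct.tmul_smul, algebraMap_smul]))
  have hop := fun x => exists_scalar ρ σ l hl ψ hψ hψb hgen χ.toAddMonoidHom
    (fun b r => Ideal.Quotient.mk m r ⊗ₜ[A] b) (fun b r q => by
      show χ _ = _ • χ q
      induction q using TensorProduct.induction_on with
      | zero => simp
      | add x y hx hy => simp only [map_add, hx, hy, smul_add]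
      | tmul b' x =>
        show ((1 : R ⧸ m) ⊗ₜ[A] (b * b')) ⊗ₜ[R ⧸ m] ((1 : R ⧸ m) ⊗ₜ[R] (r • x)) =
          (Ideal.Quotient.mk m r ⊗ₜ[A] b) • (((1 : R ⧸ m) ⊗ₜ[A] b') ⊗ₜ[R ⧸ m] ((1 : R ⧸ m) ⊗ₜ[R] x))
        have e : (1 : R ⧸ m) ⊗ₜ[R] (r • x) = (Ideal.Quotient.mk m r) • ((1 : R ⧸ m) ⊗ₜ[R] x) := by
          rw [TensorProduct.tmul_smul, ← algebraMap_smul (R ⧸ m) r]
          rfl
        rw [e, TensorProduct.tmul_smul, TensorProduct.smul_tmul', TensorProduct.smul_tmul',
          TensorProduct.smul_tmul', smul_eq_mul, smul_eq_mul, Algebra.TensorProduct.tmul_mul_tmul, mul_one]) x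
  have hcyc : ∀ w, ∃ c : (R ⧸ m) ⊗[A] B, c • χ q0 = w := by
    intro w
    induction w using TensorProduct.induction_on with
    | zero => exact ⟨0, zero_smul ((R ⧸ m) ⊗[A] B) (χ q0)⟩
    | add x y hx hy =>
      obtain ⟨c, hc⟩ := hx; obtain ⟨d, hd⟩ := hy
      exact ⟨c + d, by rw [add_smul, hc, hd]⟩
    | tmul c v =>
      obtain ⟨x, rfl⟩ := TensorProduct.mk_surjective R M (R ⧸ m) Ideal.Quotient.mk_surjective v
      obtain ⟨x', hx'⟩ := hu (ψ ((1 : B) ⊗ₜ x))
      obtain ⟨d, hd⟩ := hop x'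
      have h1 : d • χ q0 = χ ((1 : B) ⊗ₜ x) := (hd q0 _ (hx'.trans (by rw [hq0]))).symm
      refine ⟨c * d, ?_⟩
      rw [mul_smul c d (χ q0), h1]
      show c • (((1 : R ⧸ m) ⊗ₜ[A] (1 : B)) ⊗ₜ[R ⧸ m] ((1 : R ⧸ m) ⊗ₜ[R] x)) = _
      rw [TensorProduct.smul_tmul', smul_eq_mul, ← Algebra.TensorProduct.one_def, mul_one]
      rfl
  letI : Field (R ⧸ m) := Ideal.Quotient.field m
  have hV : Module.finrank (R ⧸ m) ((R ⧸ m) ⊗[R] M) ≤ 1 := by
    rw [← Module.finrank_baseChange (R := (R ⧸ m) ⊗[A] B) (S := R ⧸ m) (M' := (R ⧸ m) ⊗[R] M)]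
    exact finrank_le_one (χ q0) hcyc
  obtain ⟨v, hv⟩ := finrank_le_one_iff.1 hV
  obtain ⟨s, rfl⟩ := TensorProduct.mk_surjective R M (R ⧸ m) Ideal.Quotient.mk_surjective v
  refine ⟨s, eq_top_iff.2 fun x _ => ?_⟩
  obtain ⟨c, hc⟩ := hv ((1 : R ⧸ m) ⊗ₜ[R] x)
  obtain ⟨c, rfl⟩ := Ideal.Quotient.mk_surjective c
  rw [TensorProduct.mk_apply, TensorProduct.smul_tmul', smul_eq_mul, mul_one,
    ← map_one (Ideal.Quotient.mk m)] at hc
  have e := congrArg (TensorProduct.quotTensorEquivQuotSMul M m) hc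
  have e' : Submodule.Quotient.mk (p := m • (⊤ : Submodule R M)) (c • s) = Submodule.Quotient.mk x := by
    simpa using e
  rw [Submodule.Quotient.eq] at e'
  rw [show x = c • s - (c • s - x) by abel]
  exact sub_mem (Submodule.mem_sup_left (Submodule.smul_mem _ c (Submodule.mem_span_singleton_self s)))
    (Submodule.mem_sup_right e')

include hl hψ hψb hgen hu in
/-- The module is cyclic when the ring is semilocal. -/
theorem exists_generator [Module.FaithfullyFlat A B] [Finite (MaximalSpectrum R)] :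
    ∃ s : M, Submodule.span R {s} = ⊤ := by
  classical
  haveI := module_finite_of_cyclic ρ σ l hl ψ hψ hψb hgen u' hu
  cases nonempty_fintype (MaximalSpectrum R)
  choose g hg using fun m : MaximalSpectrum R =>
    (have := m.isMaximal; exists_gen_mod ρ σ l hl ψ hψ hψb hgen u' hu m.asIdeal)
  have hcop : Pairwise fun m n : MaximalSpectrum R => IsCoprime m.asIdeal n.asIdeal := fun m n h =>
    Ideal.isCoprime_iff_sup_eq.2 (m.isMaximal.coprime_of_ne n.isMaximal fun e => h (MaximalSpectrum.ext e))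
  choose e he using fun m : MaximalSpectrum R =>
    Ideal.exists_forall_sub_mem_ideal hcop (fun n => if n = m then (1 : R) else 0)
  let s : M := ∑ m, e m • g m
  refine ⟨s, eq_top_iff.2 fun x _ => ?_⟩
  let Q := M ⧸ Submodule.span R {s}
  suffices h : ∀ q : Q, q = 0 by exact (Submodule.Quotient.mk_eq_zero _).1 (h _)
  have hmod : ∀ m : MaximalSpectrum R, (⊤ : Submodule R Q) ≤ m.asIdeal • ⊤ := fun m => by
    have hs : s - g m ∈ m.asIdeal • (⊤ : Submodule R M) := by
      have h1 : ∀ n, n ≠ m → e n • g n ∈ m.asIdeal • (⊤ : Submodule R M) := fun n hn =>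
        Submodule.smul_mem_smul (by simpa [Ne.symm hn] using he n m) trivial
      have h2 : e m • g m - g m ∈ m.asIdeal • (⊤ : Submodule R M) := by
        rw [show e m • g m - g m = (e m - 1) • g m by rw [sub_smul, one_smul]]
        exact Submodule.smul_mem_smul (by simpa using he m m) trivial
      show (∑ n, e n • g n) - g m ∈ _
      rw [← Finset.sum_erase_add _ _ (Finset.mem_univ m), add_sub_assoc]
      exact add_mem (sum_mem fun n hn => h1 n (Finset.ne_of_mem_erase hn)) h2
    intro q _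
    obtain ⟨y, rfl⟩ := Submodule.Quotient.mk_surjective _ q
    obtain ⟨a, ha, b, hb, rfl⟩ := Submodule.mem_sup.1 ((hg m).symm.le (Submodule.mem_top (x := y)))
    obtain ⟨c, rfl⟩ := Submodule.mem_span_singleton.1 ha
    have hmap : Submodule.map (Submodule.span R {s}).mkQ (m.asIdeal • (⊤ : Submodule R M)) ≤ m.asIdeal • ⊤ := by
      rw [Submodule.map_smul'']
      exact Submodule.smul_mono le_rfl le_top
    apply hmap
    refine ⟨c • g m + b - c • s, ?_, ?_⟩
    · rw [show c • g m + b - c • s = b - c • (s - g m) by rw [smul_sub]; abel]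
      exact sub_mem hb (Submodule.smul_mem _ c hs)
    · show Submodule.Quotient.mk (c • g m + b - c • s) = Submodule.Quotient.mk (c • g m + b)
      rw [Submodule.Quotient.eq, show c • g m + b - c • s - (c • g m + b) = -(c • s) by abel]
      exact neg_mem (Submodule.smul_mem _ c (Submodule.mem_span_singleton_self s))
  have hann : Module.annihilator R Q = ⊤ := by
    by_contra hne
    obtain ⟨m, hm, hle⟩ := Ideal.exists_le_maximal _ hne
    obtain ⟨r, hr, hr0⟩ := Submodule.exists_sub_one_mem_and_smul_eq_zero_of_fg_of_le_smul m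
      (⊤ : Submodule R Q) Module.Finite.fg_top (hmod ⟨m, hm⟩)
    have h1 := hle (Module.mem_annihilator.2 fun q => hr0 q trivial)
    exact hm.ne_top ((Ideal.eq_top_iff_one _).2 (by simpa using m.sub_mem h1 hr))
  intro q
  have := Module.mem_annihilator.1 (hann.symm.le (Submodule.mem_top (x := (1 : R)))) q
  simpa using this

end

end Groth.Agent.GGDesc
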