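import Groth.Agent.GGDesc.Basic
import Groth.Agent.GGDesc.SemilocalAlg
import Groth.Agent.ZeroSchX.Basic
import Groth.Agent.DivX.MeroMod
import Groth.Agent.InvX.GenLocus
import Groth.Agent.TrivThick.Basic

/-!
# Invertible modules over a scheme with semilocal global functions trivial after faithfully flat base change
-/

set_option backward.isDefEq.respectTransparency false
set_option backward.isDefEq.respectTransparency.types false
set_option linter.style.haveILetI false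
set_option linter.unusedSectionVars false
set_option maxHeartbeats 1000000

universe u

open CategoryTheory CategoryTheory.Limits AlgebraicGeometry TopologicalSpace Opposite
open scoped TensorProduct
open Groth.Agent.QCoh

noncomputable section

namespace Groth.Agent.GGDesc

variable {X S S' X' : Scheme.{u}} {f : X ⟶ S} {g : S' ⟶ S} {f' : X' ⟶ S'} {g' : X' ⟶ X}

/-- An epimorphism from the structure sheaf onto an invertible module is an isomorphism. -/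
theorem isIso_of_epi {L : X.Modules} (hL : PicF.IsInvertible L) (s : Coh.structureModule X ⟶ L) [Epi s] :
    IsIso s := by
  refine DivX.isIso_of_frames s fun x => ?_
  obtain ⟨U, hU, e, he⟩ := InvX.exists_frame hL x
  obtain ⟨W, hW, hxW, hWU⟩ := exists_isAffineOpen_mem_and_subset (U := U) (x := x) hU
  refine ⟨W, hxW, (1 : Γ(X, W)), InvX.isFrame_one W, ?_⟩
  have hf := he.res hWU
  obtain ⟨g, hg⟩ := hf.exists_coord le_rfl (s.app W (1 : Γ(X, W)))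
  obtain ⟨r, hr⟩ := QCoh.app_surjective_of_epi
    (ZeroSchX.isQCoh_inv InvX.isInvertible_structureModule) (ZeroSchX.isQCoh_inv hL) s hW
    (AModX.res L le_rfl (AModX.res L hWU e))
  have hr' : (show Γ(X, W) from r) • s.app W (1 : Γ(X, W)) = AModX.res L le_rfl (AModX.res L hWU e) := by
    rw [← Scheme.Modules.Hom.app_smul]
    refine Eq.trans ?_ hr
    exact congrArg (s.app W) (mul_one (show Γ(X, W) from r))
  have hu : IsUnit g := by
    refine isUnit_iff_exists_inv'.2 ⟨(show Γ(X, W) from r), hf.coord_unique le_rfl ?_⟩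
    rw [mul_smul, ← hg, hr', one_smul]
  rw [hg]
  exact InvX.IsFrame.isUnit_smul (hf.res le_rfl) hu

/-- Global sections of a pullback along a flat affine base change. -/
theorem exists_tensor_top [QuasiCompact f] [QuasiSeparated f] [IsAffine S] [IsAffine S'] [Flat g]
    (h : IsPullback g' f' f g) {F : X.Modules} (hF : Coh.IsQCoh F) :
    letI : Algebra Γ(S, ⊤) Γ(S', ⊤) := (g.appLE ⊤ ⊤ le_top).hom.toAlgebra
    letI : Module Γ(S, ⊤) Γ(F, f ⁻¹ᵁ ⊤) :=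
      inferInstanceAs (Module Γ(S, ⊤) Γ((Scheme.Modules.pushforward f).obj F, ⊤))
    ∃ ψ : Γ(S', ⊤) ⊗[Γ(S, ⊤)] Γ(F, f ⁻¹ᵁ ⊤) →+ Γ((Scheme.Modules.pullback g').obj F, f' ⁻¹ᵁ ⊤),
      (∀ c m, ψ (c ⊗ₜ m) = f'.app ⊤ c • pullSec g' F (CohPullLib.sectLE h.w le_top) m) ∧
      Function.Bijective ψ := by
  letI : Algebra Γ(S, ⊤) Γ(S', ⊤) := (g.appLE ⊤ ⊤ le_top).hom.toAlgebra
  let M := (Scheme.Modules.pushforward f).obj F
  let M' := (Scheme.Modules.pushforward f').obj ((Scheme.Modules.pullback g').obj F)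
  letI : Module Γ(S, ⊤) Γ((Scheme.Modules.pullback g).obj M, ⊤) := Module.compHom _ (g.appLE ⊤ ⊤ le_top).hom
  haveI : IsScalarTower Γ(S, ⊤) Γ(S', ⊤) Γ((Scheme.Modules.pullback g).obj M, ⊤) :=
    ⟨fun a b c => mul_smul ((g.appLE ⊤ ⊤ le_top).hom a) b c⟩
  obtain ⟨l₀, hl₀, hb₀⟩ := ExistEasy.exists_pullSec_baseChange g (QCoh.isQCoh_pushforward f hF)
    (isAffineOpen_top S') (isAffineOpen_top S) le_top
  let ψ : Γ(S', ⊤) ⊗[Γ(S, ⊤)] Γ(M, ⊤) →+ Γ(M', ⊤) :=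
    ((CohBC.bc0 f g f' g' h.w F).app ⊤).hom.comp hb₀.equiv.toAddEquiv.toAddMonoidHom
  refine ⟨ψ, fun c m => ?_, (FlatBC6.bijective_bc0_app_flat h hF (isAffineOpen_top S) (isAffineOpen_top S')
    le_top).comp hb₀.equiv.bijective⟩
  show (CohBC.bc0 f g f' g' h.w F).app ⊤ (hb₀.equiv (c ⊗ₜ m)) = _
  rw [IsBaseChange.equiv_tmul, hl₀]
  refine (Scheme.Modules.Hom.app_smul (CohBC.bc0 f g f' g' h.w F) c _).trans ?_
  exact congrArg (c • ·) (CohPullLib.bc0_app_pullSec h.w F le_top m)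

/-- An invertible module on a scheme with semilocal ring of global functions which becomes trivial after a
faithfully flat base change of the affine base is trivial. -/
theorem nonempty_iso_of_trivial [QuasiCompact f] [QuasiSeparated f] [IsAffine S] [IsAffine S'] [Flat g]
    [Surjective g] (h : IsPullback g' f' f g) [Finite (MaximalSpectrum Γ(X, ⊤))]
    {L : X.Modules} (hL : PicF.IsInvertible L)
    (e : (Scheme.Modules.pullback g').obj L ≅ Coh.structureModule X') :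
    Nonempty (L ≅ Coh.structureModule X) := by
  have hLq := ZeroSchX.isQCoh_inv hL
  have hOq := ZeroSchX.isQCoh_inv (InvX.isInvertible_structureModule (X := X))
  letI : Algebra Γ(S, ⊤) Γ(S', ⊤) := (g.appLE ⊤ ⊤ le_top).hom.toAlgebra
  letI : Module Γ(S, ⊤) Γ(L, f ⁻¹ᵁ ⊤) :=
    inferInstanceAs (Module Γ(S, ⊤) Γ((Scheme.Modules.pushforward f).obj L, ⊤))
  letI : Module Γ(S, ⊤) Γ(Coh.structureModule X, f ⁻¹ᵁ ⊤) :=
    inferInstanceAs (Module Γ(S, ⊤) Γ((Scheme.Modules.pushforward f).obj (Coh.structureModule X), ⊤))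
  letI : Algebra Γ(S, ⊤) Γ(X, f ⁻¹ᵁ ⊤) := (f.app ⊤).hom.toAlgebra
  haveI : IsScalarTower Γ(S, ⊤) Γ(X, f ⁻¹ᵁ ⊤) Γ(L, f ⁻¹ᵁ ⊤) := .of_algebraMap_smul fun _ _ => rfl
  haveI : Module.FaithfullyFlat Γ(S, ⊤) Γ(S', ⊤) := by
    have h1 : g.appLE ⊤ ⊤ le_top = g.appTop := by simp [Scheme.Hom.app_eq_appLE]
    have h2 : Flat (Spec.map g.appTop) ∧ Surjective (Spec.map g.appTop) :=
      ⟨(MorphismProperty.arrow_mk_iso_iff @Flat (arrowIsoSpecΓOfIsAffine g)).1 inferInstance,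
        (MorphismProperty.arrow_mk_iso_iff @Surjective (arrowIsoSpecΓOfIsAffine g)).1 inferInstance⟩
    rw [flat_and_surjective_SpecMap_iff, ← h1] at h2
    exact h2
  have hgle : f' ⁻¹ᵁ ⊤ ≤ g' ⁻¹ᵁ (f ⁻¹ᵁ ⊤) := CohPullLib.sectLE h.w le_top
  let ρ : Γ(X, f ⁻¹ᵁ ⊤) →+* Γ(X', f' ⁻¹ᵁ ⊤) := (g'.appLE _ _ hgle).hom
  let σ : Γ(S', ⊤) →+* Γ(X', f' ⁻¹ᵁ ⊤) := (f'.app ⊤).hom
  obtain ⟨ψO, hψO, hψOb⟩ := exists_tensor_top h hOq
  obtain ⟨eO⟩ := PicClLib.nonempty_pullback_structureModule g'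
  let eO' : Γ((Scheme.Modules.pullback g').obj (Coh.structureModule X), f' ⁻¹ᵁ ⊤) →+ Γ(X', f' ⁻¹ᵁ ⊤) :=
    (eO.hom.app (f' ⁻¹ᵁ ⊤)).hom
  have hsm : ∀ (a : Γ(X', f' ⁻¹ᵁ ⊤)) z, eO' (a • z) = a * eO' z := fun a z =>
    Scheme.Modules.Hom.app_smul eO.hom a z
  have heO : Function.Surjective eO' := fun z => ⟨eO.inv.app (f' ⁻¹ᵁ ⊤) z,
    congrArg (fun χ : Coh.structureModule X' ⟶ Coh.structureModule X' => χ.app (f' ⁻¹ᵁ ⊤) z) eO.inv_hom_id⟩
  let ε := eO' (pullSec g' (Coh.structureModule X) hgle (1 : Γ(X, f ⁻¹ᵁ ⊤)))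
  let G := AddSubmonoid.closure {y : Γ(X', f' ⁻¹ᵁ ⊤) | ∃ b r, y = σ b * ρ r}
  have hG : ∀ y : Γ(X', f' ⁻¹ᵁ ⊤), ∃ r ∈ G, y = r * ε := fun y => by
    obtain ⟨z, rfl⟩ := heO y
    obtain ⟨w, rfl⟩ := hψOb.2 z
    induction w using TensorProduct.induction_on with
    | zero => exact ⟨0, zero_mem _, by rw [map_zero, map_zero, zero_mul]⟩
    | add a b ha hb =>
      obtain ⟨r, hr, er⟩ := ha
      obtain ⟨t, ht, et⟩ := hb
      exact ⟨r + t, add_mem hr ht, by rw [map_add, map_add, er, et, add_mul]⟩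
    | tmul c m =>
      refine ⟨σ c * ρ m, AddSubmonoid.subset_closure ⟨c, m, rfl⟩, ?_⟩
      have em : pullSec g' (Coh.structureModule X) hgle m =
          ρ m • pullSec g' (Coh.structureModule X) hgle (1 : Γ(X, f ⁻¹ᵁ ⊤)) := by
        refine Eq.trans ?_ (pullSec_smul g' (Coh.structureModule X) hgle (show Γ(X, f ⁻¹ᵁ ⊤) from m) _)
        exact congrArg (pullSec g' (Coh.structureModule X) hgle) (mul_one (show Γ(X, f ⁻¹ᵁ ⊤) from m)).symm
      rw [hψO, hsm, em, hsm, mul_assoc]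
  have hgen : ∀ x : Γ(X', f' ⁻¹ᵁ ⊤), x ∈ G := fun x => by
    obtain ⟨r₀, -, h0⟩ := hG 1
    obtain ⟨r, hr, h1⟩ := hG (x * ε)
    have : x = r := by
      have h2 := congrArg (· * r₀) h1
      simp only [mul_assoc, mul_comm ε r₀, ← h0, mul_one] at h2
      exact h2
    exact this ▸ hr
  obtain ⟨ψ, hψ, hψb⟩ := exists_tensor_top h hLq
  let u' : Γ((Scheme.Modules.pullback g').obj L, f' ⁻¹ᵁ ⊤) := e.inv.app (f' ⁻¹ᵁ ⊤) (1 : Γ(X', f' ⁻¹ᵁ ⊤))
  have hu : ∀ y, ∃ c : Γ(X', f' ⁻¹ᵁ ⊤), y = c • u' := fun y => by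
    refine ⟨(show Γ(X', f' ⁻¹ᵁ ⊤) from e.hom.app (f' ⁻¹ᵁ ⊤) y), ?_⟩
    refine Eq.trans ?_ (Scheme.Modules.Hom.app_smul e.inv _ _)
    refine Eq.trans ?_ (congrArg (e.inv.app (f' ⁻¹ᵁ ⊤))
      (mul_one (show Γ(X', f' ⁻¹ᵁ ⊤) from e.hom.app (f' ⁻¹ᵁ ⊤) y)).symm)
    exact (congrArg (fun χ : (Scheme.Modules.pullback g').obj L ⟶ _ => χ.app (f' ⁻¹ᵁ ⊤) y) e.hom_inv_id).symm
  haveI : Finite (MaximalSpectrum Γ(X, f ⁻¹ᵁ ⊤)) := ‹Finite (MaximalSpectrum Γ(X, ⊤))›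
  obtain ⟨s, hs⟩ := exists_generator ρ σ (AddMonoidHom.mk' (pullSec g' L hgle) (pullSec_add g' L hgle))
    (fun r m => pullSec_smul g' L hgle r m) ψ hψ hψb hgen u' hu
  have hgg : Curv2.IsGloballyGenerated ((Scheme.Modules.pullback g').obj L) :=
    AmpleX.isGloballyGenerated_of_iso e.symm ⟨PUnit, Sigma.desc fun _ => 𝟙 _,
      Preadditive.epi_of_cancel_zero _ fun χ hχ => by
        have := congrArg (Sigma.ι (fun _ : PUnit.{u+1} => Coh.structureModule X') PUnit.unit ≫ ·) hχ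
        simpa [Sigma.ι_desc_assoc] using this⟩
  have hggL := isGloballyGenerated_of_pullback h hLq hgg
  let σL : Coh.structureModule X ⟶ L := InvX.ofSect (show Γ(L, ⊤) from s)
  haveI : Epi σL := Preadditive.epi_of_cancel_zero _ fun {T} χ hχ => by
    refine DefAmple.gg_of_isGloballyGenerated hggL _ _ fun t => ?_
    refine CurveRR.hom_ext_one (φ := t ≫ χ) (ψ := 0) ?_
    obtain ⟨a, ha⟩ := Submodule.mem_span_singleton.1 (hs.symm.le (Submodule.mem_top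
      (x := (show Γ(L, f ⁻¹ᵁ ⊤) from t.app ⊤ (H23.Frame.one ⊤)))))
    show χ.app ⊤ (t.app ⊤ (H23.Frame.one ⊤)) = 0
    rw [show t.app ⊤ (H23.Frame.one ⊤) = (show Γ(X, ⊤) from a) • (show Γ(L, ⊤) from s) from ha.symm,
      Scheme.Modules.Hom.app_smul]
    have h2 : χ.app ⊤ (show Γ(L, ⊤) from s) = 0 := by
      refine Eq.trans ?_ (congrArg (fun φ : Coh.structureModule X ⟶ T => InvX.one φ) hχ)
      exact congrArg (χ.app ⊤) (InvX.one_ofSect (show Γ(L, ⊤) from s)).symm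
    rw [h2, smul_zero]
  haveI := isIso_of_epi hL σL
  exact ⟨(asIso σL).symm⟩

end Groth.Agent.GGDesc
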