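import Groth.Agent.FlatBC6.Zero
import Groth.Agent.ExistEasy.PP.PullSec
import Groth.Agent.KFlatLib.Scheme.FlatDescent
import Groth.Agent.ExpDescLib.Core
import Groth.Agent.InvX.GenEpi
import Groth.Agent.Lib.CurveRR

/-!
# Global generation descends along faithfully flat base change of an affine base
-/

set_option backward.isDefEq.respectTransparency false
set_option backward.isDefEq.respectTransparency.types false
set_option linter.style.haveILetI false
set_option linter.unusedSectionVars false
set_option maxHeartbeats 1000000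

universe u

open CategoryTheory CategoryTheory.Limits AlgebraicGeometry TopologicalSpace Opposite
open scoped TensorProduct
open Groth.Agent.QCoh

namespace Groth.Agent.GGDesc

variable {X S S' X' : Scheme.{u}} {f : X ⟶ S} {g : S' ⟶ S} {f' : X' ⟶ S'} {g' : X' ⟶ X}

/-- Sections of the pullback over the preimage of an affine open are combinations of pulled back sections. -/
theorem app_eq_zero_of_pullSec [QuasiCompact f] [QuasiSeparated f] [Flat g] (h : IsPullback g' f' f g)
    {F : X.Modules} (hF : Coh.IsQCoh F) {V : S.Opens} (hV : IsAffineOpen V) {W : S'.Opens} (hW : IsAffineOpen W)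
    (hle : W ≤ g ⁻¹ᵁ V) {N : X'.Modules} (ψ : (Scheme.Modules.pullback g').obj F ⟶ N)
    (hψ : ∀ s, ψ.app (f' ⁻¹ᵁ W) (pullSec g' F (CohPullLib.sectLE h.w hle) s) = 0)
    (t : Γ((Scheme.Modules.pullback g').obj F, f' ⁻¹ᵁ W)) : ψ.app (f' ⁻¹ᵁ W) t = 0 := by
  letI : Algebra Γ(S, V) Γ(S', W) := (g.appLE V W hle).hom.toAlgebra
  let M := (Scheme.Modules.pushforward f).obj F
  letI : Module Γ(S, V) Γ((Scheme.Modules.pullback g).obj M, W) := Module.compHom _ (g.appLE V W hle).hom
  haveI : IsScalarTower Γ(S, V) Γ(S', W) Γ((Scheme.Modules.pullback g).obj M, W) :=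
    ⟨fun a b c => mul_smul ((g.appLE V W hle).hom a) b c⟩
  obtain ⟨l₀, hl₀, hb₀⟩ := ExistEasy.exists_pullSec_baseChange g (QCoh.isQCoh_pushforward f hF) hW hV hle
  obtain ⟨z, rfl⟩ := (FlatBC6.bijective_bc0_app_flat h hF hV hW hle).2
    (show Γ((Scheme.Modules.pushforward f').obj ((Scheme.Modules.pullback g').obj F), W) from t)
  obtain ⟨w, rfl⟩ := hb₀.equiv.surjective z
  induction w using TensorProduct.induction_on with
  | zero => simp only [map_zero]
  | add a b ha hb =>
    simp only [map_add] at ha hb ⊢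
    exact (congrArg₂ (· + ·) ha hb).trans (add_zero _)
  | tmul c m =>
    rw [IsBaseChange.equiv_tmul, hl₀]
    refine (congrArg (ψ.app (f' ⁻¹ᵁ W)) ((Scheme.Modules.Hom.app_smul (CohBC.bc0 f g f' g' h.w F) c _).trans
      (congrArg (c • ·) (CohPullLib.bc0_app_pullSec h.w F hle m)))).trans ?_
    refine (Scheme.Modules.Hom.app_smul ψ (f'.app W c) _).trans ?_
    rw [hψ, smul_zero]

/-- Global generation descends along a faithfully flat base change of an affine base. -/
theorem isGloballyGenerated_of_pullback [QuasiCompact f] [QuasiSeparated f] [IsAffine S] [IsAffine S']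
    [Flat g] [Surjective g] (h : IsPullback g' f' f g) {F : X.Modules} (hF : Coh.IsQCoh F)
    (hgg : Curv2.IsGloballyGenerated ((Scheme.Modules.pullback g').obj F)) :
    Curv2.IsGloballyGenerated F := by
  haveI : Flat g' := MorphismProperty.of_isPullback h.flip inferInstance
  haveI : Surjective g' := MorphismProperty.of_isPullback h.flip inferInstance
  haveI : (Scheme.Modules.pullback g').Additive :=
    (Scheme.Modules.pullbackPushforwardAdjunction g').left_adjoint_additive
  let q : (∐ fun _ : Γ(F, ⊤) => Coh.structureModule X) ⟶ F := Sigma.desc fun s => InvX.ofSect s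
  suffices hC : IsZero (cokernel q) by
    haveI : Epi q := Preadditive.epi_of_isZero_cokernel q hC
    exact ⟨_, q, inferInstance⟩
  let π := cokernel.π q
  have hπ : ∀ s : Γ(F, ⊤), π.app ⊤ s = 0 := fun s => by
    have h1 : InvX.ofSect s ≫ π = 0 := by
      rw [← Sigma.ι_desc (fun s : Γ(F, ⊤) => InvX.ofSect s) s, Category.assoc]
      exact (congrArg (Sigma.ι (fun _ : Γ(F, ⊤) => Coh.structureModule X) s ≫ ·) (cokernel.condition q)).trans
        comp_zero
    have h2 := congrArg (fun χ => InvX.one χ) h1
    rw [← InvX.one_ofSect s]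
    exact h2
  let ψ := (Scheme.Modules.pullback g').map π
  have hψ : ∀ t : Γ((Scheme.Modules.pullback g').obj F, ⊤), ψ.app ⊤ t = 0 :=
    app_eq_zero_of_pullSec h hF (isAffineOpen_top S) (isAffineOpen_top S') le_top ψ fun s => by
      refine (ExistEasy.pullSec_natural g' π _ s).trans ?_
      rw [show π.app (f ⁻¹ᵁ ⊤) s = 0 from hπ s]
      exact map_zero (AddMonoidHom.mk' _ (QCoh.pullSec_add g' (cokernel q) _))
  have h0 : ψ = 0 := by
    refine DefAmple.gg_of_isGloballyGenerated hgg _ _ fun s => ?_
    refine CurveRR.hom_ext_one (φ := s ≫ ψ) (ψ := 0) ?_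
    exact hψ _
  refine KFlatLib.isZero_of_isZero_pullback g' _ ?_
  haveI : Epi ψ := inferInstanceAs (Epi ((Scheme.Modules.pullback g').map π))
  rw [IsZero.iff_id_eq_zero, ← cancel_epi ψ, h0]
  simp

end Groth.Agent.GGDesc
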